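import Groth.Agent.Lib.KInj.Adjoint
import Groth.Agent.Lib.DerCat.MapAdj
import Groth.Agent.Lib.QCohCat20.General
import Groth.Agent.Lib.OX.PullbackFlat
import Groth.Agent.Lib.VA.QCohPullback
import Groth.Prelude.Def_DCoh2

/-!
# Derived coherators commute with the direct image along flat morphisms
-/

set_option autoImplicit false
set_option linter.style.haveILetI false
set_option backward.isDefEq.respectTransparency false
universe u

open CategoryTheory CategoryTheory.Limits AlgebraicGeometry
attribute [local instance] HasDerivedCategory.standard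

noncomputable section

namespace GrothLib.Coherator22

/-- Functors with composable exact left adjoints: the derived right adjoints of equal composites agree. -/
theorem nonempty_square {A B A' B' : Type (u + 1)} [Category.{u} A] [Category.{u} B] [Category.{u} A'] [Category.{u} B']
    [Abelian A] [Abelian B] [Abelian A'] [Abelian B'] [HasDerivedCategory A] [HasDerivedCategory B]
    [HasDerivedCategory A'] [HasDerivedCategory B']
    {L₁ : B ⥤ A} {L₂ : B' ⥤ B} {L₃ : A' ⥤ A} {L₄ : B' ⥤ A'}
    [L₁.Additive] [L₂.Additive] [L₃.Additive] [L₄.Additive]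
    [PreservesFiniteLimits L₁] [PreservesFiniteColimits L₁] [PreservesFiniteLimits L₂] [PreservesFiniteColimits L₂]
    [PreservesFiniteLimits L₃] [PreservesFiniteColimits L₃] [PreservesFiniteLimits L₄] [PreservesFiniteColimits L₄]
    (e : L₂ ⋙ L₁ ≅ L₄ ⋙ L₃)
    {R₁ : DerivedCategory A ⥤ DerivedCategory B} (a₁ : L₁.mapDerivedCategory ⊣ R₁)
    {R₂ : DerivedCategory B ⥤ DerivedCategory B'} (a₂ : L₂.mapDerivedCategory ⊣ R₂)
    {R₃ : DerivedCategory A ⥤ DerivedCategory A'} (a₃ : L₃.mapDerivedCategory ⊣ R₃)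
    {R₄ : DerivedCategory A' ⥤ DerivedCategory B'} (a₄ : L₄.mapDerivedCategory ⊣ R₄) :
    Nonempty (R₁ ⋙ R₂ ≅ R₃ ⋙ R₄) := by
  let c₁ := DerCat.mapDerivedCompIso L₂ L₁ (L₂ ⋙ L₁) (Iso.refl _)
  let c₂ := DerCat.mapDerivedCompIso L₄ L₃ (L₂ ⋙ L₁) e.symm
  exact ⟨Adjunction.rightAdjointUniq (a₂.comp a₁) ((a₄.comp a₃).ofNatIsoLeft (c₂ ≪≫ c₁.symm))⟩

variable {X Y : Scheme.{u}} (f : X ⟶ Y)

theorem nonempty_iso
    [QuasiCompact f] [QuasiSeparated f] [Flat f] [DCoh.HasRpush f]
    [ObjectProperty.ContainsZero (fun M : X.Modules => Coh.IsQCoh M)] [ObjectProperty.IsClosedUnderKernels (fun M : X.Modules => Coh.IsQCoh M)]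
    [ObjectProperty.IsClosedUnderCokernels (fun M : X.Modules => Coh.IsQCoh M)] [ObjectProperty.IsClosedUnderFiniteProducts (fun M : X.Modules => Coh.IsQCoh M)]
    [PreservesFiniteLimits (ObjectProperty.ι (fun M : X.Modules => Coh.IsQCoh M))] [PreservesFiniteColimits (ObjectProperty.ι (fun M : X.Modules => Coh.IsQCoh M))]
    [ObjectProperty.ContainsZero (fun M : Y.Modules => Coh.IsQCoh M)] [ObjectProperty.IsClosedUnderKernels (fun M : Y.Modules => Coh.IsQCoh M)]
    [ObjectProperty.IsClosedUnderCokernels (fun M : Y.Modules => Coh.IsQCoh M)] [ObjectProperty.IsClosedUnderFiniteProducts (fun M : Y.Modules => Coh.IsQCoh M)]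
    [PreservesFiniteLimits (ObjectProperty.ι (fun M : Y.Modules => Coh.IsQCoh M))] [PreservesFiniteColimits (ObjectProperty.ι (fun M : Y.Modules => Coh.IsQCoh M))]
    (QX : X.Modules ⥤ ObjectProperty.FullSubcategory (fun M : X.Modules => Coh.IsQCoh M)) (adjX : ObjectProperty.ι (fun M : X.Modules => Coh.IsQCoh M) ⊣ QX)
    (QY : Y.Modules ⥤ ObjectProperty.FullSubcategory (fun M : Y.Modules => Coh.IsQCoh M)) (adjY : ObjectProperty.ι (fun M : Y.Modules => Coh.IsQCoh M) ⊣ QY)
    [QX.Additive] [QY.Additive]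
    [(QX.mapHomotopyCategory (ComplexShape.up ℤ) ⋙ DerivedCategory.Qh).HasRightDerivedFunctor
      (HomotopyCategory.quasiIso X.Modules (ComplexShape.up ℤ))]
    [(QY.mapHomotopyCategory (ComplexShape.up ℤ) ⋙ DerivedCategory.Qh).HasRightDerivedFunctor
      (HomotopyCategory.quasiIso Y.Modules (ComplexShape.up ℤ))]
    (hf : ∀ M : X.Modules, Coh.IsQCoh M → Coh.IsQCoh ((Scheme.Modules.pushforward f).obj M))
    [(ObjectProperty.lift (fun M : Y.Modules => Coh.IsQCoh M) (ObjectProperty.ι (fun M : X.Modules => Coh.IsQCoh M) ⋙ Scheme.Modules.pushforward f)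
      (fun M => hf M.obj M.property)).Additive]
    [((ObjectProperty.lift (fun M : Y.Modules => Coh.IsQCoh M) (ObjectProperty.ι (fun M : X.Modules => Coh.IsQCoh M) ⋙ Scheme.Modules.pushforward f)
      (fun M => hf M.obj M.property)).mapHomotopyCategory (ComplexShape.up ℤ) ⋙ DerivedCategory.Qh).HasRightDerivedFunctor
        (HomotopyCategory.quasiIso (ObjectProperty.FullSubcategory (fun M : X.Modules => Coh.IsQCoh M)) (ComplexShape.up ℤ))] :
    Nonempty (DCoh.Rpush f ⋙ (QY.mapHomotopyCategory (ComplexShape.up ℤ) ⋙ DerivedCategory.Qh).totalRightDerived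
        DerivedCategory.Qh (HomotopyCategory.quasiIso Y.Modules (ComplexShape.up ℤ)) ≅
      (QX.mapHomotopyCategory (ComplexShape.up ℤ) ⋙ DerivedCategory.Qh).totalRightDerived DerivedCategory.Qh
        (HomotopyCategory.quasiIso X.Modules (ComplexShape.up ℤ)) ⋙
        ((ObjectProperty.lift (fun M : Y.Modules => Coh.IsQCoh M) (ObjectProperty.ι (fun M : X.Modules => Coh.IsQCoh M) ⋙ Scheme.Modules.pushforward f)
          (fun M => hf M.obj M.property)).mapHomotopyCategory (ComplexShape.up ℤ) ⋙ DerivedCategory.Qh).totalRightDerived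
            DerivedCategory.Qh (HomotopyCategory.quasiIso (ObjectProperty.FullSubcategory (fun M : X.Modules => Coh.IsQCoh M)) (ComplexShape.up ℤ))) := by
  let G := ObjectProperty.lift (fun M : Y.Modules => Coh.IsQCoh M) (ObjectProperty.ι (fun M : X.Modules => Coh.IsQCoh M) ⋙ Scheme.Modules.pushforward f)
    (fun M => hf M.obj M.property)
  let L := ObjectProperty.lift (fun M : X.Modules => Coh.IsQCoh M) (ObjectProperty.ι (fun M : Y.Modules => Coh.IsQCoh M) ⋙ Scheme.Modules.pullback f)
    (fun M => VA.isQCoh_pullback f M.property)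
  let a := Scheme.Modules.pullbackPushforwardAdjunction f
  let adj : L ⊣ G := a.restrictFullyFaithful (iC := ObjectProperty.ι (fun M : Y.Modules => Coh.IsQCoh M)) (iD := ObjectProperty.ι (fun M : X.Modules => Coh.IsQCoh M))
    (ObjectProperty.fullyFaithfulι (fun M : Y.Modules => Coh.IsQCoh M)) (ObjectProperty.fullyFaithfulι (fun M : X.Modules => Coh.IsQCoh M)) (Iso.refl _) (Iso.refl _)
  haveI := OX.preservesFiniteLimits_pullback_of_flat f
  haveI := OX.additive_pullback f
  haveI : (Scheme.Modules.pullback f).IsLeftAdjoint := a.isLeftAdjoint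
  haveI : PreservesFiniteColimits (Scheme.Modules.pullback f) := inferInstance
  haveI : L.Additive := adj.left_adjoint_additive
  haveI : L.IsLeftAdjoint := adj.isLeftAdjoint
  haveI : PreservesFiniteColimits L := inferInstance
  haveI : ReflectsFiniteLimits (ObjectProperty.ι (fun M : X.Modules => Coh.IsQCoh M)) := ⟨fun _ _ _ => inferInstance⟩
  haveI : PreservesFiniteLimits (L ⋙ ObjectProperty.ι (fun M : X.Modules => Coh.IsQCoh M)) :=
    inferInstanceAs (PreservesFiniteLimits (ObjectProperty.ι (fun M : Y.Modules => Coh.IsQCoh M) ⋙ Scheme.Modules.pullback f))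
  haveI : PreservesFiniteLimits L := preservesFiniteLimits_of_reflects_of_preserves L (ObjectProperty.ι (fun M : X.Modules => Coh.IsQCoh M))
  haveI : IsGrothendieckAbelian.{u} (ObjectProperty.FullSubcategory (fun M : X.Modules => Coh.IsQCoh M)) := QCohCat20.isGrothendieckAbelian_general X
  haveI : IsGrothendieckAbelian.{u} (ObjectProperty.FullSubcategory (fun M : Y.Modules => Coh.IsQCoh M)) := QCohCat20.isGrothendieckAbelian_general Y
  obtain ⟨a₁⟩ := KInj.nonempty_mapDerivedCategory_adj_totalRightDerived a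
  obtain ⟨a₂⟩ := KInj.nonempty_mapDerivedCategory_adj_totalRightDerived adjY
  obtain ⟨a₃⟩ := KInj.nonempty_mapDerivedCategory_adj_totalRightDerived adjX
  obtain ⟨a₄⟩ := KInj.nonempty_mapDerivedCategory_adj_totalRightDerived adj
  exact nonempty_square (L₁ := Scheme.Modules.pullback f) (L₂ := ObjectProperty.ι (fun M : Y.Modules => Coh.IsQCoh M))
    (L₃ := ObjectProperty.ι (fun M : X.Modules => Coh.IsQCoh M)) (L₄ := L) (Iso.refl _) a₁ a₂ a₃ a₄

end GrothLib.Coherator22
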